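import Groth.Prelude.Def_SiteCmp
import Groth.Prelude.Def_CohSite
import Mathlib.CategoryTheory.Adjunction.Restrict
import Mathlib.CategoryTheory.Sites.LocallyInjective
import Mathlib.CategoryTheory.Sites.Abelian

/-! Sheafification for a finer topology, left adjoint of `epsSh`. -/

set_option autoImplicit false

universe u

open CategoryTheory CategoryTheory.Limits Opposite

namespace Groth.Agent.SiteCmpC.Cmp

variable {C : Type u} [SmallCategory C] {J J' : GrothendieckTopology C} (h : J' ≤ J)

/-- `J`-sheafification of a `J'`-sheaf. -/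
noncomputable abbrev shf : Sheaf J' AddCommGrpCat.{u} ⥤ Sheaf J AddCommGrpCat.{u} :=
  sheafToPresheaf J' AddCommGrpCat.{u} ⋙ presheafToSheaf J AddCommGrpCat.{u}

/-- The adjunction. -/
noncomputable def shfAdj : shf ⊣ SiteCmp.epsSh h AddCommGrpCat.{u} :=
  (sheafificationAdjunction J AddCommGrpCat.{u}).restrictFullyFaithful (fullyFaithfulSheafToPresheaf J' _)
    (Functor.FullyFaithful.id _) (Iso.refl _) (Iso.refl _)

instance full_eps : (SiteCmp.epsSh h AddCommGrpCat.{u}).Full :=
  ⟨fun {F G} ψ => ⟨⟨{ app := fun U => ψ.hom.app U, naturality := fun U V a => ψ.hom.naturality a }⟩, rfl⟩⟩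

instance faithful_eps : (SiteCmp.epsSh h AddCommGrpCat.{u}).Faithful :=
  ⟨fun {F G} a b e => by
    ext U x
    exact congrArg (fun t : (SiteCmp.epsSh h AddCommGrpCat.{u}).obj F ⟶ (SiteCmp.epsSh h AddCommGrpCat.{u}).obj G =>
      (t.hom.app U).hom x) e⟩

instance preservesFiniteLimits_shf : PreservesFiniteLimits (shf (J := J) (J' := J')) :=
  comp_preservesFiniteLimits _ _

include h in
lemma preservesColimits_shf : PreservesColimitsOfSize.{u, u} (shf (J := J) (J' := J')) :=
  (shfAdj h).leftAdjoint_preservesColimits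

include h in
lemma preservesFiniteColimits_shf : PreservesFiniteColimits (shf (J := J) (J' := J')) := by
  have : (shf (J := J) (J' := J')).IsLeftAdjoint := ⟨_, ⟨shfAdj h⟩⟩
  infer_instance

include h in
lemma additive_eps : (SiteCmp.epsSh h AddCommGrpCat.{u}).Additive := ⟨rfl⟩

lemma isIso_unit_of_isSheaf (M : Sheaf J' AddCommGrpCat.{u}) (hM : Presheaf.IsSheaf J M.obj) :
    IsIso ((shfAdj h).unit.app M) :=
  (shfAdj h).isIso_unit_app_of_iso (R := SiteCmp.epsSh h AddCommGrpCat.{u}) (X := ⟨M.obj, hM⟩)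
    ((fullyFaithfulSheafToPresheaf J' _).preimageIso (Iso.refl _))

/-- Sections of a sheaf with zero sheafification vanish locally. -/
lemma exists_cover_zero (M : Sheaf J' AddCommGrpCat.{u}) (hM : IsZero ((shf (J := J)).obj M)) (U : C)
    (s : M.obj.obj (op U)) : ∃ S ∈ J U, ∀ ⦃V : C⦄ (g : V ⟶ U), S g → (M.obj.map g.op).hom s = 0 := by
  refine ⟨Presheaf.equalizerSieve s 0, Presheaf.equalizerSieve_mem J (toSheafify J M.obj) s 0 ?_, fun V g hg =>
    (show (M.obj.map g.op).hom s = (M.obj.map g.op).hom 0 from hg).trans (map_zero _)⟩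
  have h0 : ((sheafToPresheaf J AddCommGrpCat.{u}).obj ((shf (J := J)).obj M)).obj (op U) = _ := rfl
  have hz : IsZero ((sheafify J M.obj).obj (op U)) :=
    ((evaluation _ _).obj (op U)).map_isZero ((sheafToPresheaf J AddCommGrpCat.{u}).map_isZero hM)
  exact congrArg (fun t => (t : M.obj.obj (op U) ⟶ _).hom s) (hz.eq_of_tgt ((toSheafify J M.obj).app (op U)) 0) |>.trans
    (map_zero ((toSheafify J M.obj).app (op U)).hom).symm

end Groth.Agent.SiteCmpC.Cmp
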