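import Groth.Agent.SiteBase.CofreeFam
import Groth.Agent.SiteBase.Sections
import Groth.Prelude.Def_CohSite
import Mathlib.CategoryTheory.Sites.CoverLifting
import Mathlib.CategoryTheory.Comma.Over.Basic
import Mathlib.CategoryTheory.Sites.LocallySurjective
import Mathlib.CategoryTheory.Sites.Pullback

/-! Restriction of sheaves along an arrow. -/

set_option autoImplicit false

universe u

open CategoryTheory CategoryTheory.Limits Opposite

namespace Groth.Agent.SiteCmpC.Cmp

open Groth.Agent.SiteBase

variable {C : Type u} [SmallCategory C] (J : GrothendieckTopology C) {X Y : C} (g : X ⟶ Y)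

/-- Restriction along `g`. -/
noncomputable abbrev restr : Sheaf (J.over Y) AddCommGrpCat.{u} ⥤ Sheaf (J.over X) AddCommGrpCat.{u} :=
  CohSite.push (J.over Y) (J.over X) (Over.map g)

/-- Its right adjoint. -/
noncomputable abbrev pushCo : Sheaf (J.over X) AddCommGrpCat.{u} ⥤ Sheaf (J.over Y) AddCommGrpCat.{u} :=
  (Over.map g).sheafPushforwardCocontinuous AddCommGrpCat.{u} (J.over X) (J.over Y)

/-- The adjunction. -/
noncomputable abbrev restrAdj : restr J g ⊣ pushCo J g :=
  (Over.map g).sheafAdjunctionCocontinuous AddCommGrpCat.{u} (J.over X) (J.over Y)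

lemma additive_pushCo : (pushCo J g).Additive := (restrAdj J g).right_adjoint_additive

lemma preservesFiniteLimits_pushCo : PreservesFiniteLimits (pushCo J g) :=
  have : (pushCo J g).IsRightAdjoint := ⟨_, ⟨restrAdj J g⟩⟩
  inferInstance

lemma preservesFiniteLimits_restr : PreservesFiniteLimits (restr J g) :=
  have : (restr J g).IsRightAdjoint := inferInstance
  inferInstance

lemma preservesFiniteColimits_restr : PreservesFiniteColimits (restr J g) :=
  have : (restr J g).IsLeftAdjoint := ⟨_, ⟨restrAdj J g⟩⟩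
  inferInstance

lemma injective_restr (I : Sheaf (J.over Y) AddCommGrpCat.{u}) [Injective I] :
    Injective ((restr J g).obj I) := by
  have : Injective I.obj := Injective.injective_of_adjoint (sheafificationAdjunction (J.over Y) AddCommGrpCat.{u}) I
  have : Injective ((Over.forget (Over.mk g)).op ⋙ I.obj) := injective_presheaf_over (Over.mk g) I.obj
  have h : Injective ((Over.map g).op ⋙ I.obj) :=
    Injective.injective_of_adjoint
      ((Over.iteratedSliceEquiv (Over.mk g)).op.congrLeft (E := AddCommGrpCat.{u})).symm.toAdjunction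
      ((Over.forget (Over.mk g)).op ⋙ I.obj)
  refine ⟨fun {P P'} a m hm => ?_⟩
  have : Mono m.hom := (sheafToPresheaf (J.over X) AddCommGrpCat.{u}).map_mono m
  obtain ⟨l, hl⟩ := h.factors a.hom m.hom
  exact ⟨⟨l⟩, (sheafToPresheaf (J.over X) AddCommGrpCat.{u}).map_injective hl⟩

lemma injective_pushCo (I : Sheaf (J.over X) AddCommGrpCat.{u}) [Injective I] :
    Injective ((pushCo J g).obj I) :=
  have := preservesFiniteLimits_restr J g
  Injective.injective_of_adjoint (restrAdj J g) I

lemma faithful_restr (hg : Sieve.ofArrows (fun _ : PUnit.{u + 1} => X) (fun _ => g) ∈ J Y) :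
    (restr J g).Faithful := ⟨fun {M N} a b e => by
  ext U x
  refine (((isSheaf_iff_isSheaf_of_type _ _).1
    ((Presheaf.isSheaf_iff_isSheaf_comp (J.over Y) _ (forget AddCommGrpCat.{u})).1 N.2)).isSeparated
      ((Sieve.overEquiv U.unop).symm ((Sieve.ofArrows (fun _ : PUnit.{u + 1} => X) (fun _ => g)).pullback U.unop.hom))
      (J.overEquiv_symm_mem_over _ _ (J.pullback_stable _ hg))).ext fun U' f hf => ?_
  rw [Sieve.overEquiv_symm_iff] at hf
  obtain ⟨_, r, _, ⟨_⟩, hk⟩ := hf
  let i : (Over.map g).obj (Over.mk r) ⟶ U' := Over.homMk (𝟙 U'.left) (by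
    show 𝟙 U'.left ≫ U'.hom = r ≫ g
    rw [Category.id_comp, hk, ← Over.w f])
  let i' : U' ⟶ (Over.map g).obj (Over.mk r) := Over.homMk (𝟙 U'.left) (by
    show 𝟙 U'.left ≫ r ≫ g = U'.hom
    rw [Category.id_comp, hk, ← Over.w f])
  have h1 : a.hom.app (op ((Over.map g).obj (Over.mk r))) = b.hom.app (op ((Over.map g).obj (Over.mk r))) :=
    congrArg (fun t : (restr J g).obj M ⟶ (restr J g).obj N => t.hom.app (op (Over.mk r))) e
  have h2 : a.hom.app (op U') = b.hom.app (op U') := by
    have hi : IsIso i := ⟨i', by ext; exact Category.id_comp _, by ext; exact Category.id_comp _⟩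
    rw [← cancel_mono (N.obj.map i.op), ← a.hom.naturality, ← b.hom.naturality, h1]
  show (N.obj.map f.op).hom ((a.hom.app U).hom x) = (N.obj.map f.op).hom ((b.hom.app U).hom x)
  exact ((ConcreteCategory.congr_hom (a.hom.naturality f.op) x).symm.trans
    (congrArg (fun t => t.hom ((M.obj.map f.op).hom x)) h2)).trans (ConcreteCategory.congr_hom (b.hom.naturality f.op) x)⟩

/-- A section over `Y` vanishing on objects over `X` is killed by every map to a direct image. -/
lemma app_eq_zero_of_restrict (M : Sheaf (J.over Y) AddCommGrpCat.{u}) (x : M.obj.obj (op (Over.mk (𝟙 Y))))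
    (hx : ∀ (T : Over X), (M.obj.map (Over.homMk (T.hom ≫ g) :
      (Over.map g).obj T ⟶ Over.mk (𝟙 Y)).op).hom x = 0)
    (Z : Sheaf (J.over X) AddCommGrpCat.{u}) (θ : M ⟶ (pushCo J g).obj Z) :
    (θ.hom.app (op (Over.mk (𝟙 Y)))).hom x = 0 := by
  let φ := (secEquiv (J.over Y) (Over.mk (𝟙 Y)) M).symm x
  have hφ : (restr J g).map φ = 0 := by
    ext T y
    let U' := (Over.map g).obj T.unop
    show (φ.hom.app (op U')).hom y = 0
    let F₀ := yoneda.obj (Over.mk (𝟙 Y)) ⋙ AddCommGrpCat.free.{u}
    refine (((isSheaf_iff_isSheaf_of_type _ _).1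
      ((Presheaf.isSheaf_iff_isSheaf_comp (J.over Y) _ (forget AddCommGrpCat.{u})).1 M.2)).isSeparated _
        (Presheaf.imageSieve_mem (J.over Y) (toSheafify (J.over Y) F₀) (U := op U') y)).ext fun V f hf => ?_
    obtain ⟨t, ht⟩ := hf
    show (M.obj.map f.op).hom ((φ.hom.app (op U')).hom y) = (M.obj.map f.op).hom 0
    rw [map_zero]
    refine (ConcreteCategory.congr_hom (φ.hom.naturality f.op) y).symm.trans ?_
    refine (congrArg (φ.hom.app (op V)).hom ht).symm.trans ?_
    suffices ((toSheafify (J.over Y) F₀).app (op V) ≫ φ.hom.app (op V)) = 0 from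
      congrArg (fun k => k.hom t) this
    refine AddCommGrpCat.hom_ext (FreeAbelianGroup.lift_ext _ _ fun k => ?_)
    have hk : k = f ≫ (Over.homMk (T.unop.hom ≫ g) : U' ⟶ Over.mk (𝟙 Y)) := by
      apply Over.OverMorphism.ext
      exact ((Category.comp_id _).symm.trans (Over.w k)).trans (Over.w f).symm
    have hsec : secEquiv (J.over Y) (Over.mk (𝟙 Y)) M φ = x := AddEquiv.apply_symm_apply _ _
    let ψ : F₀ ⟶ M.obj := toSheafify (J.over Y) F₀ ≫ φ.hom
    have hn : (ψ.app (op V)).hom (FreeAbelianGroup.of k) = (M.obj.map k.op).hom x := by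
      rw [← hsec]
      refine Eq.trans ?_ (ConcreteCategory.congr_hom (ψ.naturality k.op) (FreeAbelianGroup.of (𝟙 _)))
      exact congrArg (ψ.app (op V)).hom ((congrArg FreeAbelianGroup.of (Category.comp_id k)).symm.trans
        (FreeAbelianGroup.map_of_apply _).symm)
    refine hn.trans ?_
    rw [hk, op_comp, M.obj.map_comp]
    show (M.obj.map f.op).hom ((M.obj.map _).hom x) = 0
    rw [hx T.unop, map_zero]
  have h0 : φ ≫ θ = 0 := by
    apply ((restrAdj J g).homEquiv _ _).symm.injective
    rw [(restrAdj J g).homEquiv_naturality_left_symm, hφ, zero_comp]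
    exact ((restrAdj J g).homEquiv_counit _ _ _).trans (by rw [Functor.map_zero, zero_comp]) |>.symm
  have h1 := secEquiv_comp (Over.mk (𝟙 Y)) φ θ
  rw [h0, map_zero, AddEquiv.apply_symm_apply] at h1
  exact h1.symm

end Groth.Agent.SiteCmpC.Cmp
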