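import Groth.Agent.SiteCmpC.Cmp.Mono
import Groth.Agent.SiteCmpC.Cmp.Eps
import Groth.Agent.SiteCmpC.Cmp.Restr
import Mathlib.Algebra.Homology.ShortComplex.PreservesHomology
import Mathlib.CategoryTheory.Abelian.GrothendieckCategory.EnoughInjectives

/-! Vanishing of the higher direct images along a comparison of topologies. -/

set_option autoImplicit false
set_option backward.isDefEq.respectTransparency false
set_option backward.isDefEq.respectTransparency.types false

universe v v' u u'

open CategoryTheory CategoryTheory.Limits Opposite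

namespace Groth.Agent.SiteCmpC.Cmp

open Groth.Agent.SiteBase

section Abstract

variable {A : Type u} [Category.{v} A] [Abelian A] [EnoughInjectives A]
  {B : Type u'} [Category.{v'} B] [Abelian B] (F : A ⥤ B) [F.Additive] [PreservesFiniteLimits F]
  (K : CochainComplex A ℕ)

lemma nonempty_homology_map_succ (hK : ∀ j, Injective (K.X j)) (k : ℕ)
    (hex : ∀ j, 1 ≤ j → j ≤ k + 1 → K.ExactAt j) :
    Nonempty ((FC F K).homology (k + 1) ≅ (F.rightDerived (k + 1)).obj (K.homology 0)) := by
  have hz : IsZero (F.obj (K.homology (k + 1))) :=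
    F.map_isZero ((HomologicalComplex.exactAt_iff_isZero_homology _ _).1 (hex (k + 1) (by omega) le_rfl))
  have : Epi (kernel.ι (cmpH F K (k + 1))) :=
    (ShortComplex.exact_of_f_is_kernel (ShortComplex.mk (kernel.ι (cmpH F K (k + 1))) _ (kernel.condition _))
      (kernelIsKernel _)).epi_f (hz.eq_of_tgt _ _)
  have : IsIso (kernel.ι (cmpH F K (k + 1))) := isIso_of_mono_of_epi _
  obtain ⟨e⟩ := nonempty_kernel_cmpH F K k (hK k)
  obtain ⟨e'⟩ := nonempty_cycles_shift F K hK k (fun j h1 h2 => hex j h1 (by omega)) k le_rfl 1 le_rfl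
  exact ⟨(asIso (kernel.ι (cmpH F K (k + 1)))).symm ≪≫ e ≪≫ e' ≪≫ eqToIso (by rw [show 1 + k = k + 1 by omega])⟩

end Abstract

variable {C : Type u} [SmallCategory C] {J J' : GrothendieckTopology C}

/-- Sheaves are separated for coverings by objects over which a section vanishes. -/
lemma eq_zero_of_cover {τ : GrothendieckTopology C} {V : C} (N : (Over V)ᵒᵖ ⥤ AddCommGrpCat.{u})
    (hN : Presheaf.IsSheaf (τ.over V) N) (x : N.obj (op (Over.mk (𝟙 V)))) {κ : Type u} {Wk : κ → C}
    (wk : ∀ k, Wk k ⟶ V)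
    (hx : ∀ k, (N.map (Over.homMk (wk k) (Category.comp_id _) : Over.mk (wk k) ⟶ Over.mk (𝟙 V)).op).hom x = 0)
    (T : Over V) (hT : (Sieve.ofArrows Wk wk).pullback T.hom ∈ τ T.left) (t : T ⟶ Over.mk (𝟙 V)) :
    (N.map t.op).hom x = 0 := by
  refine (((isSheaf_iff_isSheaf_of_type _ _).1
    ((Presheaf.isSheaf_iff_isSheaf_comp (τ.over V) _ (forget AddCommGrpCat.{u})).1 hN)).isSeparated
      ((Sieve.overEquiv T).symm ((Sieve.ofArrows Wk wk).pullback T.hom))
      (τ.overEquiv_symm_mem_over _ _ hT)).ext fun U' f hf => ?_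
  rw [Sieve.overEquiv_symm_iff] at hf
  obtain ⟨_, r, _, ⟨k⟩, hk⟩ := hf
  let b : U' ⟶ Over.mk (wk k) := Over.homMk r (by
    show r ≫ wk k = U'.hom
    rw [hk, ← Over.w f])
  show (N.map f.op).hom ((N.map t.op).hom x) = (N.map f.op).hom 0
  rw [map_zero]
  have e : f ≫ t = b ≫ (Over.homMk (wk k) (Category.comp_id _) : Over.mk (wk k) ⟶ Over.mk (𝟙 V)) := by
    apply Over.OverMorphism.ext
    exact ((Category.comp_id _).symm.trans (Over.w (f ≫ t))).trans (Over.w b).symm
  have h' := congrArg (fun m => (N.map m.op).hom x) e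
  simp only [op_comp, N.map_comp] at h'
  refine h'.trans ?_
  exact (congrArg (N.map b.op).hom (hx k)).trans (map_zero (N.map b.op).hom)

lemma app_inj {F G : Sheaf J AddCommGrpCat.{u}} (φ : F ⟶ G) [Mono φ] (U : Cᵒᵖ) :
    Function.Injective (φ.hom.app U).hom := by
  have : Mono ((sheafToPresheaf J AddCommGrpCat.{u}).map φ) := inferInstance
  exact (AddCommGrpCat.mono_iff_injective _).1 (inferInstanceAs (Mono (((sheafToPresheaf J AddCommGrpCat.{u}).map φ).app U)))

variable (h : J' ≤ J)

/-- `ε_{X,*}`. -/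
noncomputable abbrev epsX (X : C) : Sheaf (J.over X) AddCommGrpCat.{u} ⥤ Sheaf (J'.over X) AddCommGrpCat.{u} :=
  SiteCmp.epsSh (SiteCmp.over_le h X) AddCommGrpCat.{u}

lemma preservesFiniteLimits_eps {D : Type u} [SmallCategory D] {K K' : GrothendieckTopology D} (hK : K' ≤ K) :
    PreservesFiniteLimits (SiteCmp.epsSh hK AddCommGrpCat.{u}) :=
  have : (SiteCmp.epsSh hK AddCommGrpCat.{u}).IsRightAdjoint := ⟨_, ⟨shfAdj hK⟩⟩
  inferInstance

lemma injective_eps {D : Type u} [SmallCategory D] {K K' : GrothendieckTopology D} (hK : K' ≤ K)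
    (I : Sheaf K AddCommGrpCat.{u}) [Injective I] : Injective ((SiteCmp.epsSh hK AddCommGrpCat.{u}).obj I) :=
  have : (shf (J := K) (J' := K')).PreservesMonomorphisms := inferInstance
  Injective.injective_of_adjoint (shfAdj hK) I

variable (A' : ∀ X : C, ObjectProperty (Sheaf (J'.over X) AddCommGrpCat.{u}))

/-- Vanishing of `R^i ε_*` for `1 ≤ i ≤ n` on all `A_Z`. -/
def VanishEps (n : ℕ) : Prop :=
  ∀ (Z : C) (F : Sheaf (J.over Z) AddCommGrpCat.{u}), A' Z ((epsX h Z).obj F) →
    haveI := additive_eps (SiteCmp.over_le h Z)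
    Vanish (epsX h Z) F n

variable [∀ X : C, WSerre.IsWeakSerre (A' X)]
  (h2 : ∀ ⦃X Y : C⦄ (f : X ⟶ Y) (F' : Sheaf (J'.over Y) AddCommGrpCat.{u}), A' Y F' →
      A' X ((CohSite.push (J'.over Y) (J'.over X) (Over.map f)).obj F'))
  (h3 : ∀ (X : C) (F' : Sheaf (J'.over X) AddCommGrpCat.{u}), A' X F' → Presheaf.IsSheaf (J.over X) F'.obj)
  (P : MorphismProperty C)
  (h4 : ∀ ⦃X Y : C⦄ (f : X ⟶ Y)
      [((Over.map f).sheafPushforwardCocontinuous AddCommGrpCat.{u} (J'.over X) (J'.over Y)).Additive],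
      P f → ∀ (F' : Sheaf (J'.over X) AddCommGrpCat.{u}), A' X F' → ∀ i : ℕ,
        A' Y ((((Over.map f).sheafPushforwardCocontinuous AddCommGrpCat.{u} (J'.over X) (J'.over Y)).rightDerived i).obj F'))

include h2 h3 h4

/-- A class killed on a cover refining an arrow in `P` vanishes. -/
lemma core (n : ℕ) (hV : VanishEps h A' n) {V W : C} (w : W ⟶ V) (hw : P w)
    (hcov : Sieve.ofArrows (fun _ : PUnit.{u + 1} => W) (fun _ => w) ∈ J V)
    (I : CochainComplex (Sheaf (J.over V) AddCommGrpCat.{u}) ℕ) (hI : ∀ i, Injective (I.X i))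
    (hex : ∀ i, 0 < i → I.ExactAt i) (hI0 : A' V ((epsX h V).obj (I.homology 0)))
    [(epsX h V).Additive]
    (σ : ((FC (epsX h V) I).homology (n + 1)).obj.obj (op (Over.mk (𝟙 V))))
    {κ : Type u} {Wk : κ → C} (wk : ∀ k, Wk k ⟶ W) (hWk : Sieve.ofArrows Wk wk ∈ J' W)
    (hσ : ∀ k, (((FC (epsX h V) I).homology (n + 1)).obj.map
      (Over.homMk (wk k ≫ w) (Category.comp_id _) : Over.mk (wk k ≫ w) ⟶ Over.mk (𝟙 V)).op).hom σ = 0) :
    σ = 0 := by
  haveI := additive_eps (SiteCmp.over_le h W)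
  haveI := preservesFiniteLimits_eps (SiteCmp.over_le h V)
  haveI := preservesFiniteLimits_eps (SiteCmp.over_le h W)
  haveI := preservesFiniteLimits_pushCo J' w
  haveI := preservesFiniteLimits_pushCo J w
  haveI := additive_pushCo J' w
  haveI := additive_pushCo J w
  haveI := preservesFiniteLimits_restr J w
  haveI := preservesFiniteColimits_restr J w
  haveI := preservesFiniteLimits_restr J' w
  haveI := preservesFiniteColimits_restr J' w
  let IW := FC (restr J w) I
  have hIW : ∀ i, Injective (IW.X i) := fun i => haveI := hI i; injective_restr J w (I.X i)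
  let N := FC (pushCo J w) IW
  have hN : ∀ i, Injective (N.X i) := fun i => haveI := hIW i; injective_pushCo J w (IW.X i)
  let j : I ⟶ N :=
    { f := fun i => (restrAdj J w).unit.app (I.X i)
      comm' := fun i k _ => ((restrAdj J w).unit.naturality (I.d i k)).symm }
  have hj : ∀ i, Mono (j.f i) := fun i => by
    have := faithful_restr J w hcov
    refine ⟨fun a b e => (restr J w).map_injective ?_⟩
    have e' := congrArg ((restr J w).map) e
    rw [Functor.map_comp, Functor.map_comp] at e'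
    have e'' := congrArg (· ≫ (restrAdj J w).counit.app ((restr J w).obj (I.X i))) e'
    have ht := (restrAdj J w).left_triangle_components (I.X i)
    dsimp at e''
    simp only [Category.assoc] at e''
    rw [show (restr J w).map (j.f i) ≫ (restrAdj J w).counit.app ((restr J w).obj (I.X i)) = 𝟙 _ from ht] at e''
    simpa using e''
  let KW := FC (epsX h W) IW
  have hKW : ∀ i, Injective (KW.X i) := fun i => haveI := hIW i; injective_eps (SiteCmp.over_le h W) (IW.X i)
  have exIW : ∀ i, 1 ≤ i → IW.ExactAt i := fun i hi => (hex i hi).map (restr J w)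
  have hA0 : A' W ((epsX h W).obj (IW.homology 0)) :=
    (A' W).prop_of_iso ((epsX h W).mapIso ((I.sc 0).mapHomologyIso (restr J w)).symm) (h2 w _ hI0)
  have hKex : ∀ i, 1 ≤ i → i ≤ n → KW.ExactAt i := fun i hi hin => by
    obtain ⟨k, rfl⟩ : ∃ k, i = k + 1 := ⟨i - 1, by omega⟩
    rw [HomologicalComplex.exactAt_iff_isZero_homology]
    obtain ⟨e⟩ := nonempty_homology_map_succ (epsX h W) IW hIW k fun l h1 _ => exIW l h1
    exact (hV W _ hA0 (k + 1) (by omega) hin).of_iso e
  have hK0 : A' W (KW.homology 0) := by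
    haveI := isIso_cmpH_zero (epsX h W) IW
    exact (A' W).prop_of_iso (asIso (cmpH (epsX h W) IW 0)).symm hA0
  have hP' : ∀ M, A' V M → IsIso ((shfAdj (SiteCmp.over_le h V)).unit.app M) := fun M hM =>
    isIso_unit_of_isSheaf _ M (h3 V M hM)
  have hNP : ∀ i, i ≤ n → A' V ((FC (pushCo J' w) KW).homology i) := fun i hi =>
    prop_homology_map (pushCo J' w) KW (A' V) hKW n hKex (fun l => h4 w hw _ hK0 l) i hi
  let a : (FC (epsX h V) I).homology (n + 1) ⟶ (FC (pushCo J' w) KW).homology (n + 1) :=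
    HomologicalComplex.homologyMap (((epsX h V).mapHomologicalComplex _).map j) (n + 1)
  have ha : Mono a :=
    mono_homologyMap_succ (shfAdj (SiteCmp.over_le h V)) (A' V) hP' n (fun X hX => hV V X hX) j hj hI hN hex hI0 hNP
  let M := (FC (epsX h V) I).homology (n + 1)
  let c := cmpH (pushCo J' w) KW (n + 1)
  have hx : ∀ (T : Over W), (M.obj.map (Over.homMk (T.hom ≫ w) :
      (Over.map w).obj T ⟶ Over.mk (𝟙 V)).op).hom σ = 0 := fun T => by
    refine eq_zero_of_cover M.obj M.2 σ (fun k => wk k ≫ w) hσ ((Over.map w).obj T) ?_ _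
    refine J'.superset_covering ?_ (J'.pullback_stable T.hom hWk)
    rintro U k ⟨_, r, _, ⟨i⟩, hr⟩
    show (Sieve.ofArrows _ _).arrows (k ≫ T.hom ≫ w)
    rw [← Category.assoc, ← hr, Category.assoc]
    exact Sieve.downward_closed _ (Sieve.ofArrows_mk Wk (fun k => wk k ≫ w) i) r
  have hθ : ((a ≫ c).hom.app (op (Over.mk (𝟙 V)))).hom σ = 0 :=
    app_eq_zero_of_restrict J' w M σ hx _ (a ≫ c)
  let t := (secEquiv (J'.over V) (Over.mk (𝟙 V)) M).symm σ ≫ a
  have ht : t ≫ c = 0 := by
    rw [Category.assoc, secEquiv_symm_comp, hθ, map_zero]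
  let x := secEquiv (J'.over V) (Over.mk (𝟙 V)) (kernel c) (kernel.lift c t ht)
  have hx' : ((kernel.ι c).hom.app (op (Over.mk (𝟙 V)))).hom x = (a.hom.app (op (Over.mk (𝟙 V)))).hom σ := by
    rw [← secEquiv_comp, kernel.lift_ι, secEquiv_comp, AddEquiv.apply_symm_apply]
  have hKk : Presheaf.IsSheaf (J.over V) (kernel c).obj :=
    h3 V _ (prop_kernel_cmpH (pushCo J' w) KW (A' V) hKW n hKex fun l => h4 w hw _ hK0 l)
  have hx0 : ((kernel c).obj.map (𝟙 (Over.mk (𝟙 V))).op).hom x = 0 := by
    refine eq_zero_of_cover (kernel c).obj hKk x (fun k => wk k ≫ w) (fun k => ?_) (Over.mk (𝟙 V)) ?_ _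
    · apply app_inj (kernel.ι c)
      refine (ConcreteCategory.congr_hom ((kernel.ι c).hom.naturality _) x).trans ?_
      show _ = ((kernel.ι c).hom.app _).hom 0
      rw [map_zero]
      refine (congrArg (((FC (pushCo J' w) KW).homology (n + 1)).obj.map _).hom hx').trans ?_
      refine (ConcreteCategory.congr_hom (a.hom.naturality _) σ).symm.trans ?_
      exact (congrArg (a.hom.app _).hom (hσ k)).trans (map_zero (a.hom.app _).hom)
    · refine J.pullback_stable _ (J.transitive hcov _ ?_)
      rintro U k ⟨_, r, _, ⟨_⟩, rfl⟩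
      rw [Sieve.pullback_comp]
      refine J.pullback_stable r ?_
      refine J.superset_covering ?_ (h W hWk)
      rintro U' k' ⟨_, r', _, ⟨i⟩, rfl⟩
      show (Sieve.ofArrows _ _).arrows ((r' ≫ wk i) ≫ w)
      rw [Category.assoc]
      exact Sieve.downward_closed _ (Sieve.ofArrows_mk Wk (fun k => wk k ≫ w) i) r'
  rw [op_id, CategoryTheory.Functor.map_id] at hx0
  have hx0' : x = 0 := hx0
  apply app_inj a (op (Over.mk (𝟙 V)))
  rw [← hx', hx0', map_zero, map_zero]

omit h4 h2 h3 in
lemma nonempty_homology_zero_iso {A : Type u'} [Category.{v} A] [Abelian A] {X : A} (I : InjectiveResolution X) :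
    Nonempty (I.cocomplex.homology 0 ≅ X) :=
  ⟨(@asIso _ _ _ _ (HomologicalComplex.homologyMap I.ι 0) inferInstance).symm ≪≫
    HomologicalComplex.singleObjHomologySelfIso (ComplexShape.up ℕ) 0 X⟩

variable (h5 : ∀ (U : C) (S : Sieve U), S ∈ J U → ∃ (ι : Type u) (V : ι → C) (v : ∀ j, V j ⟶ U),
      Sieve.ofArrows V v ∈ J' U ∧ ∀ j, ∃ (W : C) (w : W ⟶ V j), P w ∧
        Sieve.ofArrows (fun _ : PUnit.{u + 1} => W) (fun _ => w) ∈ J (V j) ∧
        ∃ (κ : Type u) (Wk : κ → C) (wk : ∀ k, Wk k ⟶ W), Sieve.ofArrows Wk wk ∈ J' W ∧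
          ∀ k, S.arrows (wk k ≫ w ≫ v j))

include h5

theorem vanishEps : ∀ n, VanishEps h A' n
  | 0 => fun Z F _ i hi hi' => absurd hi (by omega)
  | n + 1 => fun X F hF i hi hi' => by
    rcases Nat.lt_or_ge i (n + 1) with hlt | hge
    · exact vanishEps n X F hF i hi (by omega)
    obtain rfl : i = n + 1 := by omega
    haveI := additive_eps (SiteCmp.over_le h X)
    haveI := preservesFiniteLimits_eps (SiteCmp.over_le h X)
    haveI := preservesFiniteColimits_shf (SiteCmp.over_le h X)
    haveI : (shf (J := J.over X) (J' := J'.over X)).Additive := (shfAdj (SiteCmp.over_le h X)).left_adjoint_additive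
    let I := injectiveResolution F
    refine IsZero.of_iso ?_ (I.isoRightDerivedObj (epsX h X) (n + 1))
    let H := (FC (epsX h X) I.cocomplex).homology (n + 1)
    show IsZero H
    have hex : ∀ i, 0 < i → I.cocomplex.ExactAt i := fun i hi => by
      obtain ⟨k, rfl⟩ : ∃ k, i = k + 1 := ⟨i - 1, by omega⟩
      exact RDer.res_exactAt_succ I.cocomplex I.ι k
    have hLH : IsZero ((shf (J := J.over X)).obj H) := by
      refine IsZero.of_iso ?_ (((FC (epsX h X) I.cocomplex).sc (n + 1)).mapHomologyIso (shf (J := J.over X))).symm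
      let c : ((shf (J := J.over X) (J' := J'.over X)).mapHomologicalComplex _).obj (FC (epsX h X) I.cocomplex) ≅
          I.cocomplex :=
        HomologicalComplex.Hom.isoOfComponents (fun i => asIso ((shfAdj (SiteCmp.over_le h X)).counit.app (I.cocomplex.X i)))
          (fun i k _ => ((shfAdj (SiteCmp.over_le h X)).counit.naturality (I.cocomplex.d i k)).symm)
      exact ((HomologicalComplex.exactAt_iff_isZero_homology _ _).1 (hex (n + 1) (by omega))).of_iso
        ((HomologicalComplex.homologyFunctor _ _ (n + 1)).mapIso c)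
    refine (IsZero.iff_id_eq_zero _).2 ?_
    ext U σ
    obtain ⟨U⟩ := U
    show σ = 0
    obtain ⟨S, hS, hSσ⟩ := exists_cover_zero (J := J.over X) H hLH U σ
    obtain ⟨ι, Vj, v, hv, hvj⟩ := h5 U.left (Sieve.overEquiv U S) ((GrothendieckTopology.mem_over_iff _ _).1 hS)
    refine (((isSheaf_iff_isSheaf_of_type _ _).1
      ((Presheaf.isSheaf_iff_isSheaf_comp (J'.over X) _ (forget AddCommGrpCat.{u})).1 H.2)).isSeparated
        ((Sieve.overEquiv U).symm (Sieve.ofArrows Vj v)) (J'.overEquiv_symm_mem_over _ _ hv)).ext fun U' f hf => ?_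
    rw [Sieve.overEquiv_symm_iff] at hf
    obtain ⟨_, r, _, ⟨j⟩, hr⟩ := hf
    show (H.obj.map f.op).hom σ = (H.obj.map f.op).hom 0
    rw [map_zero]
    obtain ⟨W, w, hw, hcov, κ, Wk, wk, hWk, hWkS⟩ := hvj j
    let pv := v j ≫ U.hom
    haveI := preservesFiniteLimits_restr J pv
    haveI := preservesFiniteColimits_restr J pv
    haveI := preservesFiniteLimits_restr J' pv
    haveI := preservesFiniteColimits_restr J' pv
    haveI := additive_eps (SiteCmp.over_le h (Vj j))
    let IV := FC (restr J pv) I.cocomplex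
    let e : (FC (epsX h (Vj j)) IV).homology (n + 1) ≅ (restr J' pv).obj H :=
      ((FC (epsX h X) I.cocomplex).sc (n + 1)).mapHomologyIso (restr J' pv)
    let top : Over (Vj j) := Over.mk (𝟙 (Vj j))
    let p : (Over.map pv).obj top ⟶ U := Over.homMk (v j) (Category.id_comp _).symm
    let τ : ((restr J' pv).obj H).obj.obj (op top) := (H.obj.map p.op).hom σ
    have hA : A' (Vj j) ((epsX h (Vj j)).obj (IV.homology 0)) := by
      obtain ⟨e₀⟩ := nonempty_homology_zero_iso I
      exact (A' _).prop_of_iso ((epsX h (Vj j)).mapIso ((restr J pv).mapIso e₀.symm ≪≫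
        ((I.cocomplex.sc 0).mapHomologyIso (restr J pv)).symm)) (h2 pv _ hF)
    have hzero : (e.inv.hom.app (op top)).hom τ = 0 :=
      core h A' h2 h3 P h4 n (vanishEps n) w hw hcov IV
        (fun i => injective_restr J pv (I.cocomplex.X i)) (fun i hi => (hex i hi).map (restr J pv)) hA
        ((e.inv.hom.app (op top)).hom τ) wk hWk fun k => by
          let m : Over.mk (wk k ≫ w) ⟶ top := Over.homMk (wk k ≫ w) (Category.comp_id _)
          refine (ConcreteCategory.congr_hom (e.inv.hom.naturality m.op) τ).symm.trans ?_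
          suffices (H.obj.map ((Over.map pv).map m).op).hom τ = 0 from
            (congrArg (e.inv.hom.app _).hom this).trans (map_zero (e.inv.hom.app _).hom)
          show (H.obj.map _).hom ((H.obj.map p.op).hom σ) = 0
          rw [← ConcreteCategory.comp_apply, ← H.obj.map_comp, ← op_comp]
          refine hSσ _ ?_
          have hh := (Sieve.overEquiv_iff S (wk k ≫ w ≫ v j)).1 (hWkS k)
          let i : (Over.map pv).obj (Over.mk (wk k ≫ w)) ⟶ Over.mk ((wk k ≫ w ≫ v j) ≫ U.hom) :=
            Over.homMk (𝟙 _) (by show 𝟙 _ ≫ _ = _; simp [pv])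
          have := S.downward_closed hh i
          have e' : i ≫ (Over.homMk (wk k ≫ w ≫ v j) rfl : _ ⟶ U) = (Over.map pv).map m ≫ p := by
            ext; simp [i, m, p]
          rw [← e']
          exact this
    have hτ : τ = 0 := by
      have := congrArg (e.hom.hom.app (op top)).hom hzero
      rw [map_zero] at this
      exact (congrArg (fun t : (restr J' pv).obj H ⟶ (restr J' pv).obj H => (t.hom.app (op top)).hom τ)
        e.inv_hom_id).symm.trans this
    let b : U' ⟶ (Over.map pv).obj top := Over.homMk r (by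
      show r ≫ 𝟙 _ ≫ v j ≫ U.hom = U'.hom
      rw [Category.id_comp, ← Category.assoc, hr, Over.w f])
    have hf' : f = b ≫ p := Over.OverMorphism.ext hr.symm
    rw [hf', op_comp, H.obj.map_comp]
    exact (congrArg (H.obj.map b.op).hom hτ).trans (map_zero (H.obj.map b.op).hom)

end Groth.Agent.SiteCmpC.Cmp
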