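import Groth.Agent.SiteCmpC.Cmp.Restr
import Groth.Agent.SiteBase.Rpush
import Groth.Agent.SiteBase.DerivedPrecomp
import Mathlib.CategoryTheory.Comma.Over.Pullback

/-! Higher direct images along an arrow with base changes, as sheafified cohomology presheaves. -/

set_option autoImplicit false
set_option backward.isDefEq.respectTransparency false
set_option backward.isDefEq.respectTransparency.types false

universe u

open CategoryTheory CategoryTheory.Limits Opposite

namespace Groth.Agent.SiteCmpC.Cmp

open Groth.Agent.SiteBase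

variable {C : Type u} [SmallCategory C] (J : GrothendieckTopology C) {X Y : C} (f : X ⟶ Y) [HasPullbacksAlong f]

instance pullback_isContinuous : (Over.pullback f).IsContinuous (J.over Y) (J.over X) :=
  (Over.mapPullbackAdj f).isContinuous_of_isCocontinuous _ _

/-- `Z ↦ Z ×_Y X`, as an endofunctor of `C/Y`. -/
noncomputable abbrev bcFun : Over Y ⥤ Over Y := Over.pullback f ⋙ Over.map f

instance bcFun_isContinuous : (bcFun f).IsContinuous (J.over Y) (J.over Y) :=
  Functor.isContinuous_comp (Over.pullback f) (Over.map f) (J.over Y) (J.over X) (J.over Y)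

/-- The projection to `X`. -/
noncomputable def bcProj (Z : Over Y) : (bcFun f).obj Z ⟶ Over.mk f :=
  Over.homMk (pullback.snd Z.hom f) rfl

lemma bcProj_natural {Z Z' : Over Y} (g : Z' ⟶ Z) : (bcFun f).map g ≫ bcProj f Z = bcProj f Z' := by
  apply Over.OverMorphism.ext
  simp [bcProj, bcFun]

/-- Cocontinuous pushforward along `Over.map f` is pushforward along `Over.pullback f`. -/
noncomputable def pushCoIso : pushCo J f ≅ CohSite.push (J.over X) (J.over Y) (Over.pullback f) :=
  (restrAdj J f).rightAdjointUniq
    ((Over.mapPullbackAdj f).sheafPushforwardContinuous (E := AddCommGrpCat.{u}) (J.over X) (J.over Y))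

lemma nonempty_rightDerived_pushCo (F : Sheaf (J.over Y) AddCommGrpCat.{u}) (q : ℕ) [(pushCo J f).Additive] :
    Nonempty (((pushCo J f).rightDerived q).obj ((restr J f).obj F) ≅
      (presheafToSheaf (J.over Y) AddCommGrpCat.{u}).obj ((bcFun f).op ⋙ Sheaf.cohomologyPresheaf.{u} F q)) := by
  haveI := preservesFiniteLimits_restr J f
  haveI := preservesFiniteColimits_restr J f
  haveI : (restr J f).PreservesInjectiveObjects := ⟨fun {I} hI => @injective_restr _ _ J _ _ f I hI⟩
  haveI : (restr J f ⋙ pushCo J f).Additive := inferInstance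
  let e : restr J f ⋙ pushCo J f ≅ CohSite.push (J.over Y) (J.over Y) (bcFun f) :=
    Functor.isoWhiskerLeft (restr J f) (pushCoIso J f) ≪≫
      Functor.sheafPushforwardContinuousComp (Over.pullback f) (Over.map f) AddCommGrpCat.{u} (J.over Y) (J.over X) (J.over Y)
  exact ⟨((rightDerivedPrecompIso (restr J f) (pushCo J f) q).app F).symm ≪≫
    (rightDerivedCongr e q).app F ≪≫ (rpushIso (J.over Y) (J.over Y) (bcFun f) q).app F⟩

end Groth.Agent.SiteCmpC.Cmp
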