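import Groth.Agent.SiteCmpC.Cmp.Shift
import Groth.Prelude.Def_WeakSerre
import Mathlib.CategoryTheory.Adjunction.FullyFaithful
import Mathlib.Algebra.Homology.HomologySequence
import Mathlib.CategoryTheory.Preadditive.Injective.Basic

/-! Injectivity of `H^{n+1}` of a unit map when higher cohomology vanishes up to degree `n`. -/

set_option autoImplicit false
set_option backward.isDefEq.respectTransparency false
set_option backward.isDefEq.respectTransparency.types false

universe v v' u u'

open CategoryTheory CategoryTheory.Limits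

namespace Groth.Agent.SiteCmpC.Cmp

variable {A : Type u} [Category.{v} A] [Abelian A] [EnoughInjectives A]
  {B : Type u'} [Category.{v'} B] [Abelian B] (F : A ⥤ B) [F.Additive] [PreservesFiniteLimits F]

/-- `R^i F X = 0` for `1 ≤ i ≤ n`. -/
def Vanish (X : A) (n : ℕ) : Prop := ∀ i, 1 ≤ i → i ≤ n → IsZero ((F.rightDerived i).obj X)

variable (K : CochainComplex A ℕ)

lemma vanish_cycles (hK : ∀ j, Injective (K.X j)) (n : ℕ) (hH : ∀ j, j < n → Vanish F (K.homology j) n) :
    ∀ j, j < n → Vanish F (K.cycles j) (n - j) := by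
  intro j
  induction j with
  | zero =>
    intro hj i hi hi'
    exact (hH 0 hj i hi (by omega)).of_iso ((F.rightDerived i).mapIso (asIso (K.homologyπ 0)))
  | succ j ih =>
    intro hj i hi hi'
    refine vanish_middle F (shortExact_boundaries K (j + 1)) i ?_ (hH (j + 1) hj i hi (by omega))
    obtain ⟨w, hS⟩ := shortExact_cycles K j
    obtain ⟨e⟩ := nonempty_shift F hS (hK j) i hi
    exact (ih (by omega) (i + 1) (by omega) (by omega)).of_iso e

lemma mono_cmpH_of_vanish (hK : ∀ j, Injective (K.X j)) (n : ℕ) (hH : ∀ j, j < n → Vanish F (K.homology j) n) :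
    Mono (cmpH F K n) := by
  cases n with
  | zero => haveI := isIso_cmpH_zero F K; infer_instance
  | succ k => exact mono_cmpH_succ F K k (hK k) (vanish_cycles F K hK (k + 1) hH k (by omega) 1 le_rfl (by omega))

lemma nonempty_cycles_shift (hK : ∀ j, Injective (K.X j)) (n : ℕ) (hex : ∀ j, 1 ≤ j → j ≤ n → K.ExactAt j) :
    ∀ j, j ≤ n → ∀ i, 1 ≤ i → Nonempty ((F.rightDerived i).obj (K.cycles j) ≅ (F.rightDerived (i + j)).obj (K.homology 0)) := by
  intro j
  induction j with
  | zero => exact fun _ i _ => ⟨(F.rightDerived i).mapIso (asIso (K.homologyπ 0))⟩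
  | succ j ih =>
    intro hj i hi
    obtain ⟨w, hS⟩ := shortExact_cycles K j
    obtain ⟨e⟩ := nonempty_shift F hS (hK j) i hi
    obtain ⟨e'⟩ := ih (by omega) (i + 1) (by omega)
    have hz := (HomologicalComplex.exactAt_iff_isZero_homology _ _).1 (hex (j + 1) (by omega) hj)
    have : Epi (kernel.ι (K.homologyπ (j + 1))) :=
      (ShortComplex.exact_of_f_is_kernel (ShortComplex.mk (kernel.ι (K.homologyπ (j + 1))) _ (kernel.condition _))
        (kernelIsKernel _)).epi_f (hz.eq_of_tgt _ _)
    have : IsIso (kernel.ι (K.homologyπ (j + 1))) := isIso_of_mono_of_epi _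
    exact ⟨(F.rightDerived i).mapIso (asIso (kernel.ι (K.homologyπ (j + 1)))).symm ≪≫ e ≪≫ e' ≪≫
      eqToIso (by rw [show i + 1 + j = i + (j + 1) by omega])⟩

variable (P : ObjectProperty B) [P.IsClosedUnderIsomorphisms]

lemma prop_kernel_cmpH (hK : ∀ j, Injective (K.X j)) (n : ℕ) (hex : ∀ j, 1 ≤ j → j ≤ n → K.ExactAt j)
    (hP : ∀ i, P ((F.rightDerived i).obj (K.homology 0))) : P (kernel (cmpH F K (n + 1))) := by
  obtain ⟨e⟩ := nonempty_kernel_cmpH F K n (hK n)
  obtain ⟨e'⟩ := nonempty_cycles_shift F K hK n hex n le_rfl 1 le_rfl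
  exact P.prop_of_iso (e ≪≫ e').symm (hP _)

lemma prop_homology_map (hK : ∀ j, Injective (K.X j)) (n : ℕ) (hex : ∀ j, 1 ≤ j → j ≤ n → K.ExactAt j)
    (hP : ∀ i, P ((F.rightDerived i).obj (K.homology 0))) (i : ℕ) (hi : i ≤ n) : P ((FC F K).homology i) := by
  cases i with
  | zero =>
    haveI := isIso_cmpH_zero F K
    exact P.prop_of_iso ((F.rightDerivedZeroIsoSelf.app _) ≪≫ (asIso (cmpH F K 0)).symm) (hP 0)
  | succ k =>
    have hz : IsZero (F.obj (K.homology (k + 1))) :=
      F.map_isZero ((HomologicalComplex.exactAt_iff_isZero_homology _ _).1 (hex (k + 1) (by omega) hi))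
    have : Epi (kernel.ι (cmpH F K (k + 1))) :=
      (ShortComplex.exact_of_f_is_kernel (ShortComplex.mk (kernel.ι (cmpH F K (k + 1))) _ (kernel.condition _))
        (kernelIsKernel _)).epi_f (hz.eq_of_tgt _ _)
    have : IsIso (kernel.ι (cmpH F K (k + 1))) := isIso_of_mono_of_epi _
    exact P.prop_of_iso (asIso (kernel.ι (cmpH F K (k + 1))))
      (prop_kernel_cmpH F K P hK k (fun j h1 h2 => hex j h1 (by omega)) hP)

end Groth.Agent.SiteCmpC.Cmp

namespace Groth.Agent.SiteCmpC.Cmp

variable {A : Type u} [Category.{v} A] [Abelian A] {B : Type u'} [Category.{v'} B] [Abelian B]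
  {L : B ⥤ A} {G : A ⥤ B} (adj : L ⊣ G) [G.Full] [G.Faithful]

include adj

lemma isIso_of_isIso_map {M N : B} (f : M ⟶ N) (hM : IsIso (adj.unit.app M)) (hN : IsIso (adj.unit.app N))
    (hf : IsIso (L.map f)) : IsIso f := by
  have h := adj.unit.naturality f
  dsimp at h
  have : IsIso (adj.unit.app M ≫ G.map (L.map f)) := inferInstance
  rw [← h] at this
  exact IsIso.of_isIso_comp_right f (adj.unit.app N)

/-- A cokernel of morphisms in the image lying in the image is the image of the cokernel. -/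
lemma isIso_of_cokernel {X₁ X₂ X₃ : A} (f : X₁ ⟶ X₂) (g : X₂ ⟶ X₃) {w : f ≫ g = 0}
    (hg : IsColimit (CokernelCofork.ofπ g w)) {M : B} (π : G.obj X₂ ⟶ M) (hπ : Epi π) (hw : G.map f ≫ π = 0)
    (m : M ⟶ G.obj X₃) (hm : π ≫ m = G.map g) (hM : IsIso (adj.unit.app M)) : IsIso m := by
  have : G.IsRightAdjoint := ⟨L, ⟨adj⟩⟩
  have : L.IsLeftAdjoint := ⟨G, ⟨adj⟩⟩
  refine isIso_of_isIso_map adj m hM inferInstance ?_
  let c₁ := asIso (adj.counit.app X₁)
  let c₂ := asIso (adj.counit.app X₂)
  let c₃ := asIso (adj.counit.app X₃)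
  have : Epi g := Cofork.IsColimit.epi hg
  have : Epi (L.map π) := L.map_epi π
  have hd : f ≫ c₂.inv ≫ L.map π = 0 := by
    rw [← cancel_epi c₁.hom, comp_zero]
    have h := adj.counit.naturality f
    dsimp at h
    simp only [c₁, c₂, asIso_hom, asIso_inv]
    rw [← reassoc_of% h, IsIso.hom_inv_id_assoc, ← L.map_comp, hw]
    have : L.PreservesZeroMorphisms := inferInstance
    exact L.map_zero _ _
  let d : X₃ ⟶ L.obj M := hg.desc (CokernelCofork.ofπ _ hd)
  have hgd : g ≫ d = c₂.inv ≫ L.map π := Cofork.IsColimit.π_desc hg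
  have he : L.map π ≫ L.map m ≫ c₃.hom = c₂.hom ≫ g := by
    rw [← Category.assoc, ← L.map_comp, hm]
    exact adj.counit.naturality g
  have : IsIso (L.map m ≫ c₃.hom) := by
    refine ⟨d, ?_, ?_⟩
    · rw [← cancel_epi (L.map π), Category.assoc, reassoc_of% he, hgd, Iso.hom_inv_id_assoc]
      exact (Category.comp_id _).symm
    · rw [← cancel_epi g, reassoc_of% hgd, he, Iso.inv_hom_id_assoc]
      exact (Category.comp_id g).symm
  exact IsIso.of_isIso_comp_right (L.map m) c₃.hom

variable (P' : ObjectProperty B) [WSerre.IsWeakSerre P'] (hP' : ∀ M, P' M → IsIso (adj.unit.app M))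

include hP' in
/-- `G` is exact on short exact sequences with the first two terms in `P'`. -/
lemma epi_map_of_prop {S : ShortComplex A} (hS : S.ShortExact) (h₁ : P' (G.obj S.X₁)) (h₂ : P' (G.obj S.X₂)) :
    Epi (G.map S.g) ∧ P' (G.obj S.X₃) := by
  have : G.IsRightAdjoint := ⟨L, ⟨adj⟩⟩
  have : G.PreservesZeroMorphisms := inferInstance
  have w : G.map S.f ≫ G.map S.g = 0 := by rw [← G.map_comp, S.zero, G.map_zero]
  have := isIso_of_cokernel adj S.f S.g hS.gIsCokernel (cokernel.π (G.map S.f)) inferInstance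
    (cokernel.condition _) (cokernel.desc _ (G.map S.g) w) (cokernel.π_desc _ _ _)
    (hP' _ (P'.prop_cokernel _ h₁ h₂))
  refine ⟨?_, P'.prop_of_iso (asIso (cokernel.desc _ (G.map S.g) w)) (P'.prop_cokernel _ h₁ h₂)⟩
  rw [← cokernel.π_desc (G.map S.f) (G.map S.g) w]
  infer_instance

variable [G.Additive] [PreservesFiniteLimits G]

lemma isIso_cmpH_of_unit (K : CochainComplex A ℕ) (n : ℕ) (h : IsIso (adj.unit.app ((FC G K).homology n))) :
    IsIso (cmpH G K n) :=
  isIso_of_cokernel adj (K.toCycles _ n) (K.homologyπ n) (K.homologyIsCokernel _ n rfl)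
    ((cyclesIso G K n).hom ≫ (FC G K).homologyπ n) (epi_comp _ _)
    (by rw [← Category.assoc, map_toCycles, HomologicalComplex.toCycles_comp_homologyπ]) _
    (by rw [Category.assoc, π_cmpH, Iso.hom_inv_id_assoc]) h

variable [EnoughInjectives A]

include hP' in
/-- The key injectivity. -/
theorem mono_homologyMap_succ (n : ℕ) (hV : ∀ X : A, P' (G.obj X) → Vanish G X n)
    {I N : CochainComplex A ℕ} (j : I ⟶ N) (hj : ∀ i, Mono (j.f i))
    (hI : ∀ i, Injective (I.X i)) (hN : ∀ i, Injective (N.X i))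
    (hex : ∀ i, 0 < i → I.ExactAt i) (hI0 : P' (G.obj (I.homology 0)))
    (hNP : ∀ i, i ≤ n → P' ((FC G N).homology i)) :
    Mono (HomologicalComplex.homologyMap ((G.mapHomologicalComplex _).map j) (n + 1)) := by
  have : Mono j := HomologicalComplex.mono_of_mono_f j hj
  let S := ShortComplex.mk j (cokernel.π j) (cokernel.condition j)
  have hS : S.ShortExact := ShortComplex.ShortExact.mk'
    (ShortComplex.exact_of_g_is_cokernel S (cokernelIsCokernel j)) ‹_› (inferInstanceAs (Epi (cokernel.π j)))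
  let ev : ℕ → ShortComplex A := fun i => S.map (HomologicalComplex.eval A (ComplexShape.up ℕ) i)
  have hev : ∀ i, (ev i).ShortExact := fun i =>
    (HomologicalComplex.shortExact_iff_degreewise_shortExact S).1 hS i
  let r : ∀ i, N.X i ⟶ I.X i := fun i => (hI i).factors (𝟙 (I.X i)) (j.f i) |>.choose
  have hr : ∀ i, j.f i ≫ r i = 𝟙 _ := fun i => ((hI i).factors (𝟙 (I.X i)) (j.f i)).choose_spec
  let σ : ∀ i, (ev i).Splitting := fun i =>
    haveI := (hev i).epi_g
    ShortComplex.Splitting.ofExactOfRetraction _ (hev i).exact (r i) (hr i) inferInstance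
  have hC : ∀ i, Injective ((cokernel j).X i) := fun i =>
    Injective.mk fun {X Y} a m _ =>
      ⟨((hN i).factors (a ≫ (σ i).s) m).choose ≫ (cokernel.π j).f i, by
        rw [← Category.assoc, ((hN i).factors (a ≫ (σ i).s) m).choose_spec, Category.assoc]
        exact (congrArg (a ≫ ·) (σ i).s_g).trans (Category.comp_id a)⟩
  let GS := S.map (G.mapHomologicalComplex (ComplexShape.up ℕ))
  have hGS : GS.ShortExact := HomologicalComplex.shortExact_of_degreewise_shortExact GS fun i =>
    ((σ i).map G).shortExact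
  have hzI : ∀ i, 0 < i → IsZero (I.homology i) := fun i hi =>
    (HomologicalComplex.exactAt_iff_isZero_homology _ _).1 (hex i hi)
  have hiso : ∀ i, 0 < i → IsIso (HomologicalComplex.homologyMap (cokernel.π j) i) := fun i hi =>
    @isIso_of_mono_of_epi _ _ _ _ _ _
      ((hS.homology_exact₂ i).mono_g ((hzI i hi).eq_of_src _ _))
      ((hS.homology_exact₃ i (i + 1) (by simp)).epi_f ((hzI (i + 1) (by omega)).eq_of_tgt _ _))
  have hGN : ∀ i, i ≤ n → P' (G.obj (N.homology i)) := fun i hi => by
    haveI := isIso_cmpH_of_unit adj N i (hP' _ (hNP i hi))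
    exact P'.prop_of_iso (asIso (cmpH G N i)) (hNP i hi)
  have h0 : (ShortComplex.mk (HomologicalComplex.homologyMap j 0) (HomologicalComplex.homologyMap (cokernel.π j) 0)
      (by rw [← HomologicalComplex.homologyMap_comp, cokernel.condition, HomologicalComplex.homologyMap_zero])).ShortExact := by
    refine ShortComplex.ShortExact.mk' (hS.homology_exact₂ 0) ?_
      ((hS.homology_exact₃ 0 1 (by simp)).epi_f ((hzI 1 one_pos).eq_of_tgt _ _))
    have : Mono (HomologicalComplex.cyclesMap j 0) := by
      have h : Mono (HomologicalComplex.cyclesMap j 0 ≫ N.iCycles 0) := by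
        rw [HomologicalComplex.cyclesMap_i]; have := hj 0; exact mono_comp _ _
      exact mono_of_mono _ (N.iCycles 0)
    have h2 : Mono (I.homologyπ 0 ≫ HomologicalComplex.homologyMap j 0) := by
      rw [HomologicalComplex.homologyπ_naturality]; infer_instance
    dsimp
    rw [show HomologicalComplex.homologyMap j 0 = inv (I.homologyπ 0) ≫ I.homologyπ 0 ≫ HomologicalComplex.homologyMap j 0
      by simp]
    exact mono_comp _ _
  have hepiG : ∀ i, i ≤ n → Epi (G.map (HomologicalComplex.homologyMap (cokernel.π j) i)) ∧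
      P' (G.obj ((cokernel j).homology i)) := fun i hi => by
    cases i with
    | zero => exact epi_map_of_prop adj P' hP' h0 hI0 (hGN 0 hi)
    | succ k =>
      haveI := hiso (k + 1) (by omega)
      exact ⟨inferInstance, P'.prop_of_iso (G.mapIso (asIso (HomologicalComplex.homologyMap (cokernel.π j) (k + 1))))
        (hGN (k + 1) hi)⟩
  haveI := isIso_cmpH_of_unit adj N n (hP' _ (hNP n le_rfl))
  haveI := (hepiG n le_rfl).1
  haveI : Mono (cmpH G (cokernel j) n) :=
    mono_cmpH_of_vanish G (cokernel j) hC n fun i hi => hV _ (hepiG i hi.le).2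
  have hnat := cmpH_naturality G (cokernel.π j) n
  have : Epi (HomologicalComplex.homologyMap ((G.mapHomologicalComplex _).map (cokernel.π j)) n ≫
      cmpH G (cokernel j) n) := by rw [hnat]; exact epi_comp _ _
  haveI : Epi (cmpH G (cokernel j) n) := epi_of_epi (HomologicalComplex.homologyMap ((G.mapHomologicalComplex _).map (cokernel.π j)) n) _
  haveI : IsIso (cmpH G (cokernel j) n) := isIso_of_mono_of_epi _
  have he : Epi (HomologicalComplex.homologyMap GS.g n) := by
    rw [show HomologicalComplex.homologyMap GS.g n =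
      (HomologicalComplex.homologyMap ((G.mapHomologicalComplex _).map (cokernel.π j)) n ≫ cmpH G (cokernel j) n) ≫
        inv (cmpH G (cokernel j) n) by simp [GS, S]]
    exact epi_comp _ _
  exact (hGS.homology_exact₁ n (n + 1) (by simp)).mono_g
    (by rw [← cancel_epi (HomologicalComplex.homologyMap GS.g n), comp_zero]
        exact (hGS.comp_δ n (n + 1) (by simp)))

end Groth.Agent.SiteCmpC.Cmp
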