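import Groth.Agent.SiteBase.Horseshoe
import Mathlib.CategoryTheory.Abelian.RightDerived
import Mathlib.CategoryTheory.Abelian.Refinements
import Mathlib.Algebra.Homology.HomologicalComplexAbelian

/-! Dimension shifting and the comparison `H^n(F K) ⟶ F(H^n K)`. -/

set_option autoImplicit false
set_option backward.isDefEq.respectTransparency false
set_option backward.isDefEq.respectTransparency.types false

universe v v' u u'

open CategoryTheory CategoryTheory.Limits

namespace Groth.Agent.SiteCmpC.Cmp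

variable {A : Type u} [Category.{v} A] [Abelian A] [EnoughInjectives A]
  {B : Type u'} [Category.{v'} B] [Abelian B] (F : A ⥤ B) [F.Additive] [PreservesFiniteLimits F]

lemma isZero_rightDerived_injective (X : A) [Injective X] (i : ℕ) (hi : 1 ≤ i) :
    IsZero ((F.rightDerived i).obj X) := by
  obtain ⟨k, rfl⟩ : ∃ k, i = k + 1 := ⟨i - 1, by omega⟩
  exact F.isZero_rightDerived_obj_injective_succ k X

variable {S : ShortComplex A} (hS : S.ShortExact)
include hS

lemma epi_map_of_vanish (h : IsZero ((F.rightDerived 1).obj S.X₁)) : Epi (F.map S.g) := by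
  have he := ((SESResLib.derivedLES F).exact₃ S hS 0 1 rfl).epi_f (h.eq_of_tgt _ _)
  exact ((MorphismProperty.epimorphisms B).arrow_mk_iso_iff
    (Arrow.isoMk (F.rightDerivedZeroIsoSelf.app S.X₂) (F.rightDerivedZeroIsoSelf.app S.X₃)
      (F.rightDerivedZeroIsoSelf.hom.naturality S.g).symm)).1 he

lemma vanish_middle (i : ℕ) (h₁ : IsZero ((F.rightDerived i).obj S.X₁)) (h₃ : IsZero ((F.rightDerived i).obj S.X₃)) :
    IsZero ((F.rightDerived i).obj S.X₂) :=
  ((SESResLib.derivedLES F).exact₂ S hS i).isZero_X₂ (h₁.eq_of_src _ _) (h₃.eq_of_tgt _ _)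

lemma nonempty_shift (h₂ : Injective S.X₂) (i : ℕ) (hi : 1 ≤ i) :
    Nonempty ((F.rightDerived i).obj S.X₃ ≅ (F.rightDerived (i + 1)).obj S.X₁) := by
  let Δ := SESResLib.derivedLES F
  have := (Δ.exact₃ S hS i (i + 1) rfl).mono_g ((isZero_rightDerived_injective F S.X₂ i hi).eq_of_src _ _)
  have := (Δ.exact₁ S hS i (i + 1) rfl).epi_f ((isZero_rightDerived_injective F S.X₂ (i + 1) (by omega)).eq_of_tgt _ _)
  have : IsIso (Δ.δ S hS i (i + 1) rfl) := isIso_of_mono_of_epi _
  exact ⟨asIso (Δ.δ S hS i (i + 1) rfl)⟩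

lemma exists_cokernel_shift (h₂ : Injective S.X₂) :
    ∃ (π : F.obj S.X₃ ⟶ (F.rightDerived 1).obj S.X₁) (w : F.map S.g ≫ π = 0),
      (ShortComplex.mk (F.map S.g) π w).Exact ∧ Epi π := by
  let Δ := SESResLib.derivedLES F
  let e := F.rightDerivedZeroIsoSelf
  let π := e.inv.app S.X₃ ≫ Δ.δ S hS 0 1 rfl
  have w : F.map S.g ≫ π = 0 := by
    simp only [π]
    rw [← Category.assoc, e.inv.naturality S.g, Category.assoc, Δ.comp_δ, comp_zero]
  have := (Δ.exact₁ S hS 0 1 rfl).epi_f ((isZero_rightDerived_injective F S.X₂ 1 le_rfl).eq_of_tgt _ _)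
  refine ⟨π, w, ShortComplex.exact_of_iso ?_ (Δ.exact₃ S hS 0 1 rfl), epi_comp _ _⟩
  refine ShortComplex.isoMk (e.app _) (e.app _) (Iso.refl _) (e.hom.naturality S.g).symm ?_
  simp [π]

end Groth.Agent.SiteCmpC.Cmp

namespace Groth.Agent.SiteCmpC.Cmp

variable {A : Type u} [Category.{v} A] [Abelian A]
  {B : Type u'} [Category.{v'} B] [Abelian B]

/-- Boundaries. -/
noncomputable abbrev Bd (K : CochainComplex A ℕ) (n : ℕ) : A := kernel (K.homologyπ n)

/-- Differential onto the boundaries. -/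
noncomputable def toBd (K : CochainComplex A ℕ) (n : ℕ) : K.X n ⟶ Bd K (n + 1) :=
  kernel.lift _ (K.toCycles n (n + 1)) (K.toCycles_comp_homologyπ n (n + 1))

lemma shortExact_cycles (K : CochainComplex A ℕ) (n : ℕ) :
    ∃ w, (ShortComplex.mk (K.iCycles n) (toBd K n) w).ShortExact := by
  have h : toBd K n ≫ kernel.ι _ ≫ K.iCycles (n + 1) = K.d n (n + 1) := by
    rw [toBd, kernel.lift_ι_assoc, HomologicalComplex.toCycles_i]
  have w : K.iCycles n ≫ toBd K n = 0 := by
    rw [← cancel_mono (kernel.ι _ ≫ K.iCycles (n + 1)), zero_comp, Category.assoc, h, K.iCycles_d]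
  refine ⟨w, ShortComplex.ShortExact.mk' ?_ inferInstance ?_⟩
  · rw [ShortComplex.exact_iff_exact_up_to_refinements]
    intro T x hx
    dsimp at x hx ⊢
    have hd : x ≫ K.d n (n + 1) = 0 := by rw [← h, reassoc_of% hx, zero_comp]
    exact ⟨T, 𝟙 T, inferInstance, K.liftCycles x (n + 1) (by simp) hd, by simp⟩
  · dsimp
    rw [epi_iff_surjective_up_to_refinements]
    intro T y
    have hex : (ShortComplex.mk (K.toCycles n (n + 1)) (K.homologyπ (n + 1)) (K.toCycles_comp_homologyπ n (n + 1))).Exact :=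
      ShortComplex.exact_of_g_is_cokernel _ (K.homologyIsCokernel n (n + 1) (by simp))
    obtain ⟨T', q, hq, x, hx⟩ := hex.exact_up_to_refinements (y ≫ kernel.ι _) (by dsimp; rw [Category.assoc, kernel.condition, comp_zero])
    exact ⟨T', q, hq, x, by rw [← cancel_mono (kernel.ι _), Category.assoc, Category.assoc, toBd, kernel.lift_ι]; exact hx⟩

lemma shortExact_boundaries (K : CochainComplex A ℕ) (n : ℕ) :
    (ShortComplex.mk (kernel.ι (K.homologyπ n)) (K.homologyπ n) (kernel.condition _)).ShortExact :=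
  ShortComplex.ShortExact.mk' (ShortComplex.exact_of_f_is_kernel _ (kernelIsKernel _)) inferInstance inferInstance

variable (F : A ⥤ B) [F.Additive] [PreservesFiniteLimits F]

/-- The complex after applying `F`. -/
noncomputable abbrev FC (K : CochainComplex A ℕ) : CochainComplex B ℕ := (F.mapHomologicalComplex _).obj K

lemma F_iCycles_d (K : CochainComplex A ℕ) (n : ℕ) :
    F.map (K.iCycles n) ≫ (FC F K).d n (n + 1) = 0 :=
  (F.map_comp _ _).symm.trans ((congrArg F.map (K.iCycles_d n (n + 1))).trans (F.map_zero _ _))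

/-- `F` commutes with cycles. -/
noncomputable def cyclesIso (K : CochainComplex A ℕ) (n : ℕ) : F.obj (K.cycles n) ≅ (FC F K).cycles n :=
  (KernelFork.mapIsLimit _ (K.cyclesIsKernel n (n + 1) (by simp)) F).conePointUniqueUpToIso
    ((FC F K).cyclesIsKernel n (n + 1) (by simp))

lemma cyclesIso_hom_i (K : CochainComplex A ℕ) (n : ℕ) :
    (cyclesIso F K n).hom ≫ (FC F K).iCycles n = F.map (K.iCycles n) :=
  IsLimit.conePointUniqueUpToIso_hom_comp (KernelFork.mapIsLimit _ (K.cyclesIsKernel n (n + 1) (by simp)) F)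
    ((FC F K).cyclesIsKernel n (n + 1) (by simp)) WalkingParallelPair.zero

lemma map_toCycles (K : CochainComplex A ℕ) (m n : ℕ) :
    F.map (K.toCycles m n) ≫ (cyclesIso F K n).hom = (FC F K).toCycles m n := by
  rw [← cancel_mono ((FC F K).iCycles n), Category.assoc, cyclesIso_hom_i, HomologicalComplex.toCycles_i,
    ← F.map_comp, HomologicalComplex.toCycles_i]
  rfl

/-- The comparison `H^n(F K) ⟶ F(H^n K)`. -/
noncomputable def cmpH (K : CochainComplex A ℕ) (n : ℕ) : (FC F K).homology n ⟶ F.obj (K.homology n) :=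
  ((FC F K).homologyIsCokernel _ n rfl).desc (CokernelCofork.ofπ ((cyclesIso F K n).inv ≫ F.map (K.homologyπ n))
    (by rw [← map_toCycles, Category.assoc, Iso.hom_inv_id_assoc, ← F.map_comp, K.toCycles_comp_homologyπ, F.map_zero]))

lemma π_cmpH (K : CochainComplex A ℕ) (n : ℕ) :
    (FC F K).homologyπ n ≫ cmpH F K n = (cyclesIso F K n).inv ≫ F.map (K.homologyπ n) :=
  Cofork.IsColimit.π_desc ((FC F K).homologyIsCokernel _ n rfl)

lemma cmpH_naturality {K L : CochainComplex A ℕ} (g : K ⟶ L) (n : ℕ) :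
    HomologicalComplex.homologyMap ((F.mapHomologicalComplex _).map g) n ≫ cmpH F L n =
      cmpH F K n ≫ F.map (HomologicalComplex.homologyMap g n) := by
  have hc : (cyclesIso F K n).hom ≫ HomologicalComplex.cyclesMap ((F.mapHomologicalComplex _).map g) n =
      F.map (HomologicalComplex.cyclesMap g n) ≫ (cyclesIso F L n).hom := by
    rw [← cancel_mono ((FC F L).iCycles n), Category.assoc, Category.assoc, HomologicalComplex.cyclesMap_i,
      cyclesIso_hom_i, reassoc_of% (cyclesIso_hom_i F K n), ← F.map_comp, HomologicalComplex.cyclesMap_i, F.map_comp]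
    rfl
  rw [← cancel_epi ((FC F K).homologyπ n), HomologicalComplex.homologyπ_naturality_assoc, π_cmpH,
    reassoc_of% (π_cmpH F K n), ← cancel_epi (cyclesIso F K n).hom, reassoc_of% hc, Iso.hom_inv_id_assoc,
    Iso.hom_inv_id_assoc, ← F.map_comp, ← F.map_comp, HomologicalComplex.homologyπ_naturality]

lemma isIso_cmpH_zero (K : CochainComplex A ℕ) : IsIso (cmpH F K 0) := by
  have h : IsIso ((FC F K).homologyπ 0 ≫ cmpH F K 0) := by rw [π_cmpH]; infer_instance
  exact IsIso.of_isIso_comp_left ((FC F K).homologyπ 0) _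

/-- The kernel of the comparison. -/
lemma nonempty_kernel_cmpH [EnoughInjectives A] (K : CochainComplex A ℕ) (n : ℕ) (hK : Injective (K.X n)) :
    Nonempty (kernel (cmpH F K (n + 1)) ≅ (F.rightDerived 1).obj (K.cycles n)) := by
  obtain ⟨w, hS⟩ := shortExact_cycles K n
  obtain ⟨π, hw, hex, hπ⟩ := exists_cokernel_shift F hS hK
  let c := cmpH F K (n + 1)
  let ι := F.map (kernel.ι (K.homologyπ (n + 1))) ≫ (cyclesIso F K (n + 1)).hom
  let q : F.obj (Bd K (n + 1)) ⟶ kernel c := kernel.lift _ (ι ≫ (FC F K).homologyπ (n + 1)) (by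
    simp only [c, ι, Category.assoc, π_cmpH, Iso.hom_inv_id_assoc]
    rw [← F.map_comp, kernel.condition, F.map_zero])
  have hι : F.map (toBd K n) ≫ ι = (FC F K).toCycles n (n + 1) := by
    rw [← map_toCycles, ← F.map_comp_assoc, toBd, kernel.lift_ι]
  have hq0 : F.map (toBd K n) ≫ q = 0 := by
    rw [← cancel_mono (kernel.ι c), Category.assoc, zero_comp, kernel.lift_ι, ← Category.assoc, hι,
      HomologicalComplex.toCycles_comp_homologyπ]
  have : Mono ι := mono_comp _ _
  have hexq : (ShortComplex.mk (F.map (toBd K n)) q hq0).Exact := by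
    rw [ShortComplex.exact_iff_exact_up_to_refinements]
    intro T x hx
    dsimp at x hx ⊢
    have hH : (ShortComplex.mk ((FC F K).toCycles n (n + 1)) ((FC F K).homologyπ (n + 1))
        ((FC F K).toCycles_comp_homologyπ n (n + 1))).Exact :=
      ShortComplex.exact_of_g_is_cokernel _ ((FC F K).homologyIsCokernel n (n + 1) (by simp))
    obtain ⟨T', p, hp, y, hy⟩ := hH.exact_up_to_refinements (x ≫ ι) (by
      dsimp
      have := congrArg (· ≫ kernel.ι c) hx
      simpa [q] using this)
    exact ⟨T', p, hp, y, by rw [← cancel_mono ι, Category.assoc, Category.assoc, hι]; exact hy⟩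
  have hFk : (ShortComplex.mk (F.map (kernel.ι (K.homologyπ (n + 1)))) (F.map (K.homologyπ (n + 1)))
      (by rw [← F.map_comp, kernel.condition, F.map_zero])).Exact :=
    (shortExact_boundaries K (n + 1)).exact.map_of_mono_of_preservesKernel F (shortExact_boundaries K (n + 1)).mono_f
      inferInstance
  have hepi : Epi q := by
    rw [epi_iff_surjective_up_to_refinements]
    intro T x
    obtain ⟨T', p, hp, z, hz⟩ := surjective_up_to_refinements_of_epi ((FC F K).homologyπ (n + 1)) (x ≫ kernel.ι c)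
    have hz0 : (z ≫ (cyclesIso F K (n + 1)).inv) ≫ F.map (K.homologyπ (n + 1)) = 0 := by
      rw [Category.assoc, ← π_cmpH, ← Category.assoc, ← hz]
      simp [c]
    obtain ⟨T'', p', hp', b, hb⟩ := hFk.exact_up_to_refinements (z ≫ (cyclesIso F K (n + 1)).inv) hz0
    refine ⟨T'', p' ≫ p, epi_comp _ _, b, ?_⟩
    rw [← cancel_mono (kernel.ι c)]
    simp only [Category.assoc]
    rw [
      show q ≫ kernel.ι c = ι ≫ (FC F K).homologyπ (n + 1) from kernel.lift_ι _ _ _, hz]
    dsimp at hb
    simp only [ι, Category.assoc]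
    rw [← reassoc_of% hb, Iso.inv_hom_id_assoc]
  exact ⟨(hexq.gIsCokernel).coconePointUniqueUpToIso hex.gIsCokernel⟩

lemma mono_cmpH_succ [EnoughInjectives A] (K : CochainComplex A ℕ) (n : ℕ) (hK : Injective (K.X n))
    (h : IsZero ((F.rightDerived 1).obj (K.cycles n))) : Mono (cmpH F K (n + 1)) := by
  obtain ⟨e⟩ := nonempty_kernel_cmpH F K n hK
  exact Preadditive.mono_of_isZero_kernel _ (h.of_iso e)

end Groth.Agent.SiteCmpC.Cmp
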